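import Cfsg.Agent.Lib.Fi22Three.Model.Basic

/-!
# The diagonal element of order three has a Sylow subgroup for three in its centraliser
-/

set_option autoImplicit false
set_option linter.unusedSectionVars false
set_option maxRecDepth 8000

namespace Cfsg.Lib.Fi22Three.Model

open Matrix Cfsg.Lib.CosetEnum Cfsg.Lib.CosetEnum.GF4 Cfsg.Lib.Linear.Herm Cfsg.Lib.Linear.AutPSU

/-- An element of order three whose centraliser has order divisible by `3⁶`. -/
def Central3 {G : Type*} [Group G] (r : G) : Prop :=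
  orderOf r = 3 ∧ 729 ∣ Nat.card (Subgroup.centralizer ({r} : Set G))

theorem Central3.map {G K : Type*} [Group G] [Group K] (e : G ≃* K) {r : G} (h : Central3 r) : Central3 (e r) := by
  refine ⟨(e.orderOf_eq r).trans h.1, ?_⟩
  have hm : (Subgroup.centralizer ({r} : Set G)).map e.toMonoidHom = Subgroup.centralizer ({e r} : Set K) := by
    ext x
    rw [Subgroup.mem_map_equiv, Subgroup.mem_centralizer_singleton_iff, Subgroup.mem_centralizer_singleton_iff]
    constructor <;> intro hh
    · simpa using congrArg e hh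
    · apply e.injective
      simpa using hh
  rw [← hm, Subgroup.card_map_of_injective (f := e.toMonoidHom) e.injective]
  exact h.2

/-- A power of the primitive element. -/
def wp : ZMod 3 → GF4 := fun k => w ^ k.val

theorem wp_add : ∀ a b : ZMod 3, wp (a + b) = wp a * wp b := by decide +kernel

theorem wp_inj : ∀ a b : ZMod 3, wp a = wp b → a = b := by decide +kernel

theorem wp_norm : ∀ a : ZMod 3, wp a * wp a ^ 2 = 1 := by decide +kernel

/-- The exponents, the last one balancing the determinant. -/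
def expo (k : Fin 5 → ZMod 3) : Fin 6 → ZMod 3 := ![k 0, k 1, k 2, k 3, k 4, -(k 0 + k 1 + k 2 + k 3 + k 4)]

theorem expo_add (k l : Fin 5 → ZMod 3) : expo (k + l) = expo k + expo l := by
  funext j
  fin_cases j <;> simp [expo] <;> ring

theorem diag_det (k : Fin 5 → ZMod 3) : (Matrix.diagonal fun j => wp (expo k j)).det = 1 := by
  rw [Matrix.det_diagonal, Fin.prod_univ_six, ← wp_add, ← wp_add, ← wp_add, ← wp_add, ← wp_add]
  have h : expo k 0 + expo k 1 + expo k 2 + expo k 3 + expo k 4 + expo k 5 = 0 := by simp [expo]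
  rw [h]
  rfl

theorem diag_cols (k : Fin 5 → ZMod 3) (a b : Fin 6) :
    (∑ c, (Matrix.diagonal fun j => wp (expo k j)) c a * (Matrix.diagonal fun j => wp (expo k j)) c b ^ 2) =
      if a = b then 1 else 0 := by
  rcases eq_or_ne a b with rfl | h
  · rw [if_pos rfl, Finset.sum_eq_single a (fun c _ hc => by simp [hc]) (by simp), Matrix.diagonal_apply_eq, wp_norm]
  · rw [if_neg h, Finset.sum_eq_single a (fun c _ hc => by simp [hc]) (by simp), Matrix.diagonal_apply_ne _ h,
      zero_pow two_ne_zero, mul_zero]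

/-- The diagonal subgroup. -/
def diagHom : Multiplicative (Fin 5 → ZMod 3) →* S6 :=
  MonoidHom.mk' (fun k => mkS _ (diag_det k.toAdd) (diag_cols k.toAdd)) fun k l => Subtype.ext (Subtype.ext (by
    show Matrix.diagonal _ = Matrix.diagonal _ * Matrix.diagonal _
    rw [Matrix.diagonal_mul_diagonal, toAdd_mul, expo_add]
    exact congrArg _ (funext fun j => wp_add _ _)))

/-- The permutation of the coordinates. -/
def sh (p : ZMod 3 × ZMod 3) (c : Fin 6) : Fin 6 :=
  if h : c.val < 3 then ⟨(c.val + p.1.val) % 3, by omega⟩ else ⟨3 + (c.val + p.2.val) % 3, by omega⟩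

/-- The permutation matrix. -/
def shM (p : ZMod 3 × ZMod 3) : Matrix (Fin 6) (Fin 6) GF4 :=
  Matrix.of fun a c => if sh p c = a then 1 else 0

theorem shM_mul : ∀ a b c d : ZMod 3, shM ((a, b) + (c, d)) = shM (a, b) * shM (c, d) := by decide +kernel

theorem shM_det : ∀ a b : ZMod 3, (shM (a, b)).det = 1 := by decide +kernel

theorem shM_cols : ∀ a b : ZMod 3, ∀ j l : Fin 6,
    (∑ c, shM (a, b) c j * shM (a, b) c l ^ 2) = if j = l then 1 else 0 := by decide +kernel

theorem shM_diag : ∀ a b : ZMod 3, (∀ j, shM (a, b) j j ≠ 0) → a = 0 ∧ b = 0 := by decide +kernel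

theorem shM_rM : ∀ a b : ZMod 3, shM (a, b) * rM = rM * shM (a, b) := by decide +kernel

/-- The permutation subgroup. -/
def shHom : Multiplicative (ZMod 3 × ZMod 3) →* S6 :=
  MonoidHom.mk' (fun p => mkS _ (shM_det p.toAdd.1 p.toAdd.2) (shM_cols p.toAdd.1 p.toAdd.2)) fun p r =>
    Subtype.ext (Subtype.ext (shM_mul _ _ _ _))

theorem sh_norm (p : Multiplicative (ZMod 3 × ZMod 3)) (k : Multiplicative (Fin 5 → ZMod 3)) :
    shHom p * diagHom k * (shHom p)⁻¹ ∈ diagHom.range := by
  obtain ⟨f, hf⟩ : ∃ f : Equiv.Perm (Fin 6), ∀ c, f c = sh p.toAdd c := by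
    have hb : ∀ a b : ZMod 3, Function.Bijective (sh (a, b)) := by decide +kernel
    exact ⟨Equiv.ofBijective _ (hb p.toAdd.1 p.toAdd.2), fun c => rfl⟩
  let e : Fin 6 → ZMod 3 := fun j => expo k.toAdd (f.symm j)
  have hsum : e 0 + e 1 + e 2 + e 3 + e 4 + e 5 = 0 := by
    rw [← Fin.sum_univ_six e, Equiv.sum_comp f.symm (expo k.toAdd), Fin.sum_univ_six]
    simp [expo]
  refine ⟨Multiplicative.ofAdd fun j => e j.castSucc, ?_⟩
  rw [eq_mul_inv_iff_mul_eq]
  refine Subtype.ext (Subtype.ext ?_)
  show (Matrix.diagonal fun j => wp (expo (fun j : Fin 5 => e j.castSucc) j)) * shM p.toAdd =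
    shM p.toAdd * Matrix.diagonal fun j => wp (expo k.toAdd j)
  have he : expo (fun j : Fin 5 => e j.castSucc) = e := by
    funext j
    fin_cases j <;> first | rfl | skip
    show -(e 0 + e 1 + e 2 + e 3 + e 4) = e 5
    exact neg_eq_of_add_eq_zero_right hsum
  rw [he]
  ext a c
  rw [Matrix.diagonal_mul, Matrix.mul_diagonal]
  simp only [shM, Matrix.of_apply, ← hf]
  split_ifs with h
  · rw [mul_one, one_mul]
    show wp (expo k.toAdd (f.symm a)) = _
    rw [← h, Equiv.symm_apply_apply]
  · rw [mul_zero, zero_mul]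

theorem three_nsmul_zmod : (∀ x : ZMod 3, 3 • x = 0) ∧ (∀ x : ZMod 3 × ZMod 3, 3 • x = 0) := by decide

/-- The element of order three in the simple group. -/
def rb : U6 := QuotientGroup.mk r0

theorem φ0_rb : φ0 rb = rb := φ0_r

theorem central3_rb : Central3 rb := by
  haveI : Fact (Nat.Prime 3) := ⟨Nat.prime_three⟩
  haveI : Finite S6 := Nat.finite_of_card_ne_zero (by rw [card_psu.2.1]; norm_num)
  refine ⟨orderOf_eq_prime (by rw [rb, ← QuotientGroup.mk_pow, r0_three, QuotientGroup.mk_one]) fun h => ?_, ?_⟩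
  · have h1 := Subgroup.mem_center_iff.1 ((QuotientGroup.eq_one_iff r0).1 h) y0
    have h2 : yM * rM = rM * yM := congrArg (fun s : S6 => s.1.1) h1
    revert h2
    decide +kernel
  set A := diagHom.range
  set B := shHom.range
  set K := A ⊔ B
  set C := Subgroup.centralizer ({r0} : Set S6)
  have hK : K ≤ C := by
    refine sup_le ?_ ?_
    · rintro _ ⟨k, rfl⟩
      refine Subgroup.mem_centralizer_singleton_iff.2 (Subtype.ext (Subtype.ext ?_))
      show Matrix.diagonal _ * rM = rM * Matrix.diagonal _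
      rw [rM, Matrix.diagonal_mul_diagonal, Matrix.diagonal_mul_diagonal]
      exact congrArg _ (funext fun j => mul_comm _ _)
    · rintro _ ⟨p, rfl⟩
      exact Subgroup.mem_centralizer_singleton_iff.2 (Subtype.ext (Subtype.ext (shM_rM _ _)))
  have h3 : (∀ x : ZMod 3, 3 • x = 0) ∧ (∀ x : ZMod 3 × ZMod 3, 3 • x = 0) := three_nsmul_zmod
  have hA : IsPGroup 3 A := fun a => by
    obtain ⟨k, hk⟩ := a.2
    refine ⟨1, Subtype.ext ?_⟩
    rw [pow_one, SubgroupClass.coe_pow, ← hk, ← map_pow,
      show k ^ 3 = 1 from Multiplicative.toAdd.injective (funext fun j => h3.1 _), map_one]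
    rfl
  have hB : IsPGroup 3 B := fun b => by
    obtain ⟨p, hp⟩ := b.2
    refine ⟨1, Subtype.ext ?_⟩
    rw [pow_one, SubgroupClass.coe_pow, ← hp, ← map_pow,
      show p ^ 3 = 1 from Multiplicative.toAdd.injective (h3.2 _),
      map_one]
    rfl
  have hn : B ≤ Subgroup.normalizer (A : Set S6) := by
    rintro _ ⟨p, rfl⟩
    rw [Subgroup.mem_normalizer_iff]
    intro x
    constructor
    · rintro ⟨k, rfl⟩; exact sh_norm p k
    · rintro ⟨k, hk⟩
      have := sh_norm p⁻¹ k
      rwa [hk, map_inv, inv_inv, show (shHom p)⁻¹ * (shHom p * x * (shHom p)⁻¹) * shHom p = x by group] at this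
  have hKp : IsPGroup 3 K := hA.to_sup_of_normal_left' hB hn
  obtain ⟨n, hcard⟩ := IsPGroup.iff_card.1 hKp
  have hge : 2187 ≤ Nat.card K := by
    let f : Multiplicative (Fin 5 → ZMod 3) × Multiplicative (ZMod 3 × ZMod 3) → K := fun q =>
      ⟨diagHom q.1 * shHom q.2, mul_mem (Subgroup.mem_sup_left ⟨_, rfl⟩) (Subgroup.mem_sup_right ⟨_, rfl⟩)⟩
    have hf : Function.Injective f := by
      rintro ⟨k, p⟩ ⟨k', p'⟩ e
      have e1 : diagHom k * shHom p = diagHom k' * shHom p' := congrArg Subtype.val e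
      have e2 : diagHom (k'⁻¹ * k) = shHom (p' * p⁻¹) := by
        rw [map_mul, map_mul, map_inv, map_inv, inv_mul_eq_iff_eq_mul, ← mul_assoc, eq_mul_inv_iff_mul_eq, e1]
      have e3 : Matrix.diagonal (fun j => wp (expo (k'⁻¹ * k).toAdd j)) = shM (p' * p⁻¹).toAdd :=
        congrArg (fun s : S6 => s.1.1) e2
      have hp : (p' * p⁻¹).toAdd.1 = 0 ∧ (p' * p⁻¹).toAdd.2 = 0 := shM_diag _ _ fun j => by
        rw [← show Matrix.diagonal (fun j => wp (expo (k'⁻¹ * k).toAdd j)) j j = shM (p' * p⁻¹).toAdd j j by rw [e3],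
          Matrix.diagonal_apply_eq]
        exact (show ∀ x : ZMod 3, wp x ≠ 0 by decide +kernel) _
      have hp1 : p' = p := mul_inv_eq_one.1 (Multiplicative.toAdd.injective (Prod.ext hp.1 hp.2))
      subst hp1
      have hk : diagHom k = diagHom k' := mul_right_cancel e1
      refine Prod.ext (Multiplicative.toAdd.injective (funext fun j => ?_)) rfl
      have e4 : Matrix.diagonal (fun j => wp (expo k.toAdd j)) = Matrix.diagonal fun j => wp (expo k'.toAdd j) :=
        congrArg (fun s : S6 => s.1.1) hk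
      have := wp_inj _ _ (congrFun (Matrix.diagonal_injective e4) j.castSucc)
      fin_cases j <;> exact this
    have := Nat.card_le_card_of_injective f hf
    simpa [Nat.card_prod] using this
  have hn7 : 7 ≤ n := by
    by_contra hlt
    have := Nat.pow_le_pow_right (show 1 ≤ 3 by norm_num) (show n ≤ 6 by omega)
    omega
  have hC : 2187 ∣ Nat.card C := (show 3 ^ 7 ∣ Nat.card K from hcard ▸ pow_dvd_pow 3 hn7).trans
    (Subgroup.card_dvd_of_le hK)
  -- into the simple group
  let φ : C →* U6 := (QuotientGroup.mk' (Subgroup.center S6)).comp C.subtype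
  have hker : Nat.card φ.ker ∣ 3 := by
    have hle : φ.ker.map C.subtype ≤ Subgroup.center S6 := by
      rintro _ ⟨c, hc, rfl⟩
      exact (QuotientGroup.eq_one_iff _).1 hc
    have := Subgroup.card_dvd_of_le hle
    rwa [card_psu.2.2, Subgroup.card_map_of_injective C.subtype_injective] at this
  have hrange : φ.range ≤ Subgroup.centralizer ({rb} : Set U6) := by
    rintro _ ⟨c, rfl⟩
    refine Subgroup.mem_centralizer_singleton_iff.2 ?_
    show (QuotientGroup.mk (c : S6) : U6) * rb = rb * QuotientGroup.mk (c : S6)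
    rw [rb, ← QuotientGroup.mk_mul, ← QuotientGroup.mk_mul, Subgroup.mem_centralizer_singleton_iff.1 c.2]
  refine dvd_trans ?_ (Subgroup.card_dvd_of_le hrange)
  have hprod : Nat.card C = Nat.card φ.range * Nat.card φ.ker := by
    rw [Subgroup.card_eq_card_quotient_mul_card_subgroup φ.ker,
      Nat.card_congr (QuotientGroup.quotientKerEquivRange φ).toEquiv]
  refine Nat.dvd_of_mul_dvd_mul_right (show 0 < 3 by norm_num) (hC.trans ?_)
  rw [hprod]
  exact mul_dvd_mul_left _ hker

end Cfsg.Lib.Fi22Three.Model
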