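import Cfsg.Agent.Lib.Fi22Three.Model.Basic

/-!
# Semilinear involutions: fixed vectors and adapted frames
-/

set_option autoImplicit false
set_option linter.unusedSectionVars false
set_option maxRecDepth 8000

namespace Cfsg.Lib.Fi22Three.Model

open Matrix Cfsg.Lib.CosetEnum Cfsg.Lib.CosetEnum.GF4 Cfsg.Lib.Linear.Herm Cfsg.Lib.Linear.AutPSU

set_option quotPrecheck false

local notation "V" => (Fin 6 → GF4)
local notation "H" => hB hF 6

theorem frob_eq (a : GF4) : frob hF a = fr a := by rw [frob_apply, pow_two]; rfl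

theorem H_smul_left (a : GF4) (x y : V) : H (a • x) y = fr a * H x y := by rw [form_smul_left, frob_eq]

theorem H_smul_right (a : GF4) (x y : V) : H x (a • y) = a * H x y := form_smul_right hF a x y

theorem H_symm (x y : V) : H y x = fr (H x y) := by rw [← form_symm hF x y, frob_eq]

theorem fr_fixed : ∀ a : GF4, fr a = a → a = 0 ∨ a = 1 := by decide +kernel

theorem add_self'' (x : V) : x + x = 0 := funext fun _ => GF4.add_self' _

/-- A semilinear involution preserving the form. -/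
structure Semi where
  g : ↥(Cfsg.GU 6 GF4 2)
  sq : g.1.1 * g.1.1.map fr = 1

namespace Semi

variable (S : Semi)

/-- The map. -/
def φ (x : V) : V := S.g.1.1 *ᵥ (fr ∘ x)

theorem φ_add (x y : V) : S.φ (x + y) = S.φ x + S.φ y := by
  show S.g.1.1 *ᵥ (fr ∘ (x + y)) = _
  rw [show fr ∘ (x + y) = fr ∘ x + fr ∘ y from funext fun j => map_add fr _ _, Matrix.mulVec_add]
  rfl

theorem φ_smul (a : GF4) (x : V) : S.φ (a • x) = fr a • S.φ x := by
  show S.g.1.1 *ᵥ (fr ∘ (a • x)) = _
  rw [show fr ∘ (a • x) = fr a • (fr ∘ x) from funext fun j => map_mul fr _ _, Matrix.mulVec_smul]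
  rfl

theorem φ_φ (x : V) : S.φ (S.φ x) = x := by
  show S.g.1.1 *ᵥ (fr ∘ (S.g.1.1 *ᵥ (fr ∘ x))) = x
  rw [← mulVec_comp, Matrix.mulVec_mulVec, S.sq, Matrix.one_mulVec]
  funext j
  exact (show ∀ a : GF4, fr (fr a) = a by decide +kernel) _

theorem φ_form (x y : V) : H (S.φ x) (S.φ y) = fr (H x y) := by
  show H (S.g.1.1 *ᵥ (fr ∘ x)) (S.g.1.1 *ᵥ (fr ∘ y)) = _
  rw [form_GU hF, form_comp hF]

/-- A fixed vector. -/
def Fix (x : V) : Prop := S.φ x = x

theorem fix_add {x y : V} (hx : S.Fix x) (hy : S.Fix y) : S.Fix (x + y) := by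
  unfold Fix at *; rw [S.φ_add, hx, hy]

theorem fix_smul {a : GF4} (ha : fr a = a) {x : V} (hx : S.Fix x) : S.Fix (a • x) := by
  unfold Fix at *; rw [S.φ_smul, ha, hx]

theorem form_fix {x y : V} (hx : S.Fix x) (hy : S.Fix y) : fr (H x y) = H x y := by
  rw [← S.φ_form, hx, hy]

/-- The second part of a vector. -/
def p2 (x : V) : V := x + S.φ x

theorem fix_p2 (x : V) : S.Fix (S.p2 x) := by
  unfold Fix p2; rw [S.φ_add, S.φ_φ, add_comm]

theorem fix_p1 (x : V) : S.Fix (x + w • S.p2 x) := by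
  have h : S.φ (S.p2 x) = S.p2 x := S.fix_p2 x
  unfold Fix
  rw [S.φ_add, S.φ_smul, h]
  unfold p2
  funext j
  simp only [Pi.add_apply, Pi.smul_apply, smul_eq_mul]
  exact (show ∀ a b : GF4, b + fr w * (a + b) = a + w * (a + b) by decide +kernel) _ _

theorem decomp (x : V) : x = (x + w • S.p2 x) + w • S.p2 x := by
  rw [add_assoc, add_self'', add_zero]

/-- Linear conditions on the fixed vectors hold everywhere. -/
theorem all_of_fix {P : V → Prop} (hadd : ∀ x y, P x → P y → P (x + y)) (hsmul : ∀ (a : GF4) x, P x → P (a • x))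
    (h : ∀ x, S.Fix x → P x) (x : V) : P x := by
  rw [S.decomp x]
  exact hadd _ _ (h _ (S.fix_p1 x)) (hsmul _ _ (h _ (S.fix_p2 x)))

theorem eq_zero_of_perp {e : V} (h : ∀ x, S.Fix x → H e x = 0) : e = 0 := by
  refine (hB_nondegenerate hF 6).1 e fun y => ?_
  refine S.all_of_fix (P := fun y => H e y = 0) (fun x y hx hy => by rw [map_add, hx, hy, add_zero])
    (fun a x hx => by rw [H_smul_right, hx, mul_zero]) h y

/-- The form is alternating on the fixed vectors. -/
def Alt : Prop := ∀ x, S.Fix x → H x x = 0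

/-- The projection away from a hyperbolic pair. -/
noncomputable def proj (e f x : V) : V := x + H f x • e + H e x • f

theorem proj_spec {e f : V} (he : H e e = 0) (hf : H f f = 0) (hef : H e f = 1) (x : V) :
    H e (proj e f x) = 0 ∧ H f (proj e f x) = 0 := by
  have hfe : H f e = 1 := by rw [H_symm, hef, map_one]
  constructor
  · rw [proj, map_add, map_add, H_smul_right, H_smul_right, he, hef, mul_zero, add_zero, mul_one]
    exact GF4.add_self' _
  · rw [proj, map_add, map_add, H_smul_right, H_smul_right, hf, hfe, mul_zero, add_zero, mul_one]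
    exact GF4.add_self' _

theorem proj_keep {e f u : V} (hu : H u e = 0) (hu' : H u f = 0) (x : V) : H u (proj e f x) = H u x := by
  rw [proj, map_add, map_add, H_smul_right, H_smul_right, hu, hu', mul_zero, mul_zero, add_zero, add_zero]

theorem fix_proj {e f x : V} (he : S.Fix e) (hf : S.Fix f) (hx : S.Fix x) : S.Fix (proj e f x) :=
  S.fix_add (S.fix_add hx (S.fix_smul (S.form_fix hf hx) he)) (S.fix_smul (S.form_fix he hx) hf)

/-- A partner of a nonzero fixed vector. -/
theorem exists_partner' {e : V} (he : S.Fix e) (he0 : e ≠ 0) : ∃ f, S.Fix f ∧ H e f = 1 := by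
  by_contra hc
  push Not at hc
  refine he0 (S.eq_zero_of_perp fun x hx => ?_)
  exact (fr_fixed _ (S.form_fix he hx)).resolve_right (hc x hx)

theorem card_V : Nat.card V = 4096 := by
  rw [Nat.card_fun, Nat.card_eq_fintype_card, Nat.card_eq_fintype_card, Fintype.card_fin, card_eq]; norm_num

/-- A fixed vector away from one hyperbolic pair. -/
theorem exists_next {e f : V} (he : S.Fix e) (hf : S.Fix f) : ∃ x, S.Fix x ∧ proj e f x ≠ 0 := by
  by_contra hc
  push Not at hc
  have hall : ∀ x, x = H f x • e + H e x • f := by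
    refine fun x => S.all_of_fix (P := fun x => x = H f x • e + H e x • f) (fun x y hx hy => ?_)
      (fun a x hx => ?_) (fun x hx => ?_) x
    · rw [map_add, map_add, add_smul, add_smul]
      conv_lhs => rw [hx, hy]
      abel
    · rw [H_smul_right, H_smul_right, mul_smul, mul_smul, ← smul_add, ← hx]
    · have h0 := hc x hx
      rw [proj, add_assoc] at h0
      exact (eq_neg_of_add_eq_zero_left h0).trans (by
        refine (eq_neg_of_add_eq_zero_left (add_self'' _)).symm)
  have h := Nat.card_le_card_of_injective (fun x : V => (H f x, H e x)) fun x y h => by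
    simp only [Prod.mk.injEq] at h
    rw [hall x, hall y, h.1, h.2]
  rw [card_V, Nat.card_prod, Nat.card_eq_fintype_card, card_eq] at h
  norm_num at h

/-- A fixed vector away from two hyperbolic pairs. -/
theorem exists_next₂ {e f e' f' : V} (he : S.Fix e) (hf : S.Fix f) (he' : S.Fix e') (hf' : S.Fix f') :
    ∃ x, S.Fix x ∧ proj e' f' (proj e f x) ≠ 0 := by
  by_contra hc
  push Not at hc
  let P : V → Prop := fun x => proj e' f' (proj e f x) = 0
  have hlin : ∀ e f x y : V, proj e f (x + y) = proj e f x + proj e f y := fun e f x y => by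
    simp only [proj, map_add, add_smul]; abel
  have hlin' : ∀ (e f x : V) (a : GF4), proj e f (a • x) = a • proj e f x := fun e f x a => by
    simp only [proj, H_smul_right, mul_smul, smul_add]
  have hall : ∀ x, P x := S.all_of_fix (P := P)
    (fun x y hx hy => by show proj e' f' (proj e f (x + y)) = 0; rw [hlin, hlin, hx, hy, add_zero])
    (fun a x hx => by show proj e' f' (proj e f (a • x)) = 0; rw [hlin', hlin', hx, smul_zero]) hc
  have h := Nat.card_le_card_of_injective
    (fun x : V => ((H f x, H e x), (H f' (proj e f x), H e' (proj e f x)))) fun x y h => by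
    simp only [Prod.mk.injEq] at h
    obtain ⟨⟨h1, h2⟩, h3, h4⟩ := h
    have e1 : proj e f x + (H f' (proj e f x) • e' + H e' (proj e f x) • f') = 0 := by
      rw [← add_assoc]; exact hall x
    have e2 : proj e f y + (H f' (proj e f y) • e' + H e' (proj e f y) • f') = 0 := by
      rw [← add_assoc]; exact hall y
    rw [h3, h4] at e1
    have e3 : proj e f x = proj e f y := add_right_cancel (e1.trans e2.symm)
    unfold proj at e3
    rw [h1, h2] at e3
    exact add_right_cancel (add_right_cancel e3)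
  rw [card_V, Nat.card_prod, Nat.card_prod, Nat.card_eq_fintype_card, card_eq] at h
  norm_num at h

/-- A basis of three fixed hyperbolic pairs. -/
structure Frame where
  e : Fin 3 → V
  f : Fin 3 → V
  he : ∀ p, S.Fix (e p)
  hf : ∀ p, S.Fix (f p)
  ee : ∀ p r, H (e p) (e r) = 0
  ff : ∀ p r, H (f p) (f r) = 0
  ef : ∀ p r, H (e p) (f r) = if p = r then 1 else 0

/-- A frame from any nonzero fixed vector. -/
theorem exists_frame (ha : S.Alt) {c : V} (hc : S.Fix c) (hc0 : c ≠ 0) : ∃ T : S.Frame, T.e 0 = c := by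
  obtain ⟨d, hd, hcd⟩ := S.exists_partner' hc hc0
  obtain ⟨x, hx, hx0⟩ := S.exists_next hc hd
  obtain ⟨e2, e2d⟩ : ∃ e2, e2 = proj c d x := ⟨_, rfl⟩
  have he2 : S.Fix e2 := e2d ▸ S.fix_proj hc hd hx
  obtain ⟨e2c, e2d'⟩ : H c e2 = 0 ∧ H d e2 = 0 := e2d ▸ proj_spec (ha c hc) (ha d hd) hcd x
  obtain ⟨z, hz, hz1⟩ := S.exists_partner' he2 (e2d ▸ hx0)
  obtain ⟨f2, f2d⟩ : ∃ f2, f2 = proj c d z := ⟨_, rfl⟩
  have hf2 : S.Fix f2 := f2d ▸ S.fix_proj hc hd hz
  obtain ⟨f2c, f2d'⟩ : H c f2 = 0 ∧ H d f2 = 0 := f2d ▸ proj_spec (ha c hc) (ha d hd) hcd z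
  have sym : ∀ {x y : V}, H x y = 0 → H y x = 0 := fun h => by rw [H_symm, h, map_zero]
  have h22 : H e2 f2 = 1 := by rw [f2d, proj_keep (sym e2c) (sym e2d'), hz1]
  obtain ⟨u, hu, hu0⟩ := S.exists_next₂ hc hd he2 hf2
  have hP : ∀ v, H c (proj e2 f2 (proj c d v)) = 0 ∧ H d (proj e2 f2 (proj c d v)) = 0 ∧
      H e2 (proj e2 f2 (proj c d v)) = 0 ∧ H f2 (proj e2 f2 (proj c d v)) = 0 := fun v => by
    obtain ⟨a1, a2⟩ := proj_spec (ha c hc) (ha d hd) hcd v
    exact ⟨(proj_keep e2c f2c _).trans a1, (proj_keep e2d' f2d' _).trans a2,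
      proj_spec (ha e2 he2) (ha f2 hf2) h22 _⟩
  obtain ⟨e3, e3d⟩ : ∃ e3, e3 = proj e2 f2 (proj c d u) := ⟨_, rfl⟩
  have he3 : S.Fix e3 := e3d ▸ S.fix_proj he2 hf2 (S.fix_proj hc hd hu)
  obtain ⟨q1, q2, q3, q4⟩ := hP u
  rw [← e3d] at q1 q2 q3 q4
  obtain ⟨z', hz', hz1'⟩ := S.exists_partner' he3 (e3d ▸ hu0)
  obtain ⟨f3, f3d⟩ : ∃ f3, f3 = proj e2 f2 (proj c d z') := ⟨_, rfl⟩
  have hf3 : S.Fix f3 := f3d ▸ S.fix_proj he2 hf2 (S.fix_proj hc hd hz')
  obtain ⟨r1, r2, r3, r4⟩ := hP z'
  rw [← f3d] at r1 r2 r3 r4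
  have h33 : H e3 f3 = 1 := by rw [f3d, proj_keep (sym q3) (sym q4), proj_keep (sym q1) (sym q2), hz1']
  refine ⟨⟨![c, e2, e3], ![d, f2, f3], ?_, ?_, ?_, ?_, ?_⟩, rfl⟩
  · intro p; fin_cases p; exacts [hc, he2, he3]
  · intro p; fin_cases p; exacts [hd, hf2, hf3]
  · intro p r
    fin_cases p <;> fin_cases r
    exacts [ha c hc, e2c, q1, sym e2c, ha e2 he2, q3, sym q1, sym q3, ha e3 he3]
  · intro p r
    fin_cases p <;> fin_cases r
    exacts [ha d hd, f2d', r2, sym f2d', ha f2 hf2, r4, sym r2, sym r4, ha f3 hf3]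
  · intro p r
    fin_cases p <;> fin_cases r
    exacts [hcd, f2c, r1, sym e2d', h22, r3, sym q2, sym q4, h33]

/-- The matrix is symmetric. -/
theorem g_symm (a b : Fin 6) : S.g.1.1 a b = S.g.1.1 b a := by
  set M := S.g.1.1
  have hu : (M.map fr)ᵀ * M = 1 := by
    ext a b
    have h := S.g.2 (Pi.single b 1) (Pi.single a 1)
    simp only [Units.coeHom_apply, Cfsg.hermForm, Matrix.mulVec_single_one, Matrix.col_apply] at h
    rw [Matrix.mul_apply, Matrix.one_apply]
    rw [show (∑ k, ((M.map fr)ᵀ) a k * M k b) = ∑ k, M k b * M k a ^ 2 from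
      Finset.sum_congr rfl fun k _ => by rw [Matrix.transpose_apply, Matrix.map_apply, mul_comm, pow_two]; rfl]
    exact h.trans (by
      rcases eq_or_ne a b with rfl | hab
      · simp [Pi.single_apply, ite_pow]
      · simp [Pi.single_apply, ite_pow, hab, Ne.symm hab])
  have h1 : (M.map fr)ᵀ = M.map fr := left_inv_eq_right_inv hu S.sq
  have := congrFun (congrFun h1 b) a
  rw [Matrix.transpose_apply, Matrix.map_apply, Matrix.map_apply] at this
  exact fr.injective this

/-- The diagonal of the matrix, conjugated: it represents the quadratic map on the fixed vectors. -/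
def cdiag : V := fun j => fr (S.g.1.1 j j)

theorem cdiag_spec {x : V} (hx : S.Fix x) : H S.cdiag x = H x x := by
  set M := S.g.1.1 with hM
  have hsym : ∀ a b, M a b = M b a := S.g_symm
  have hx' : ∀ a, x a = ∑ b, M a b * (x b * x b) := fun a => (congrFun hx a).symm
  show ∑ a, x a * (fr (M a a)) ^ 2 = ∑ a, x a * x a ^ 2
  have key : ∑ a, x a * x a ^ 2 = ∑ a, ∑ b, M a b * (x a * x a * (x b * x b)) :=
    Finset.sum_congr rfl fun a _ => by
      conv_lhs => arg 1; rw [hx' a]
      rw [Finset.sum_mul]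
      exact Finset.sum_congr rfl fun b _ => by rw [pow_two]; ring
  rw [key]
  simp only [Fin.sum_univ_six]
  rw [hsym 1 0, hsym 2 0, hsym 2 1, hsym 3 0, hsym 3 1, hsym 3 2, hsym 4 0, hsym 4 1, hsym 4 2, hsym 4 3,
    hsym 5 0, hsym 5 1, hsym 5 2, hsym 5 3, hsym 5 4]
  have h4 : ∀ a m : GF4, m * (a * a * (a * a)) = a * fr m ^ 2 := by decide +kernel
  rw [h4, h4, h4, h4, h4, h4]
  ring_nf
  simp only [show (2 : GF4) = 0 from rfl, mul_zero, zero_mul, add_zero, zero_add]

theorem cdiag_fix : S.Fix S.cdiag := by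
  have h : S.φ S.cdiag + S.cdiag = 0 := S.eq_zero_of_perp fun x hx => by
    rw [map_add, LinearMap.add_apply]
    have e : H (S.φ S.cdiag) x = fr (H S.cdiag x) := by
      conv_lhs => rw [← hx]
      rw [S.φ_form]
    rw [e, S.cdiag_spec hx, S.form_fix hx hx]
    exact GF4.add_self' _
  exact (eq_neg_of_add_eq_zero_left h).trans (eq_neg_of_add_eq_zero_left (add_self'' _)).symm

theorem cdiag_iso : H S.cdiag S.cdiag = 0 := by
  set M := S.g.1.1 with hM
  have hsum : ∀ a, (∑ b, M a b * fr (M a b)) = 1 := fun a => by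
    have h := congrFun (congrFun S.sq a) a
    rw [Matrix.mul_apply, Matrix.one_apply_eq] at h
    rw [← h]
    exact Finset.sum_congr rfl fun b _ => by rw [Matrix.map_apply, S.g_symm b a]
  have hsy : ∀ a b, M a b * fr (M a b) = M b a * fr (M b a) := fun a b => by
    rw [hM, S.g_symm a b]
  have hc : H S.cdiag S.cdiag = ∑ a, M a a * fr (M a a) := by
    show ∑ a, fr (M a a) * fr (M a a) ^ 2 = _
    exact Finset.sum_congr rfl fun a _ => (show ∀ m : GF4, fr m * fr m ^ 2 = m * fr m by decide +kernel) _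
  have h0 := hsum 0
  have h1 := hsum 1
  have h2 := hsum 2
  have h3 := hsum 3
  have h4 := hsum 4
  have h5 := hsum 5
  rw [hc]
  simp only [Fin.sum_univ_six] at h0 h1 h2 h3 h4 h5 ⊢
  rw [hsy 1 0] at h1
  rw [hsy 2 0, hsy 2 1] at h2
  rw [hsy 3 0, hsy 3 1, hsy 3 2] at h3
  rw [hsy 4 0, hsy 4 1, hsy 4 2, hsy 4 3] at h4
  rw [hsy 5 0, hsy 5 1, hsy 5 2, hsy 5 3, hsy 5 4] at h5
  have h2z : (2 : GF4) = 0 := rfl
  linear_combination (norm := (ring_nf; simp only [h2z, show (6 : GF4) = 0 from rfl, mul_zero, zero_mul, add_zero,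
    zero_add, sub_zero, neg_zero])) h0 + h1 + h2 + h3 + h4 + h5

end Semi

end Cfsg.Lib.Fi22Three.Model
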