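import Cfsg.Agent.Lib.Fi22Three.Model.Five
import Cfsg.Agent.Lib.Fi22Three.Model.Central
import Cfsg.Agent.Lib.Fi22Three.Model.Semi
import Cfsg.Agent.Lib.Linear.AutPSU.Main

/-!
# Outer involutions of `U₆(2)`
-/

set_option autoImplicit false
set_option linter.unusedSectionVars false
set_option maxRecDepth 8000

namespace Cfsg.Lib.Fi22Three.Model

open Matrix Cfsg.Lib.CosetEnum Cfsg.Lib.CosetEnum.GF4 Cfsg.Lib.Linear.Herm Cfsg.Lib.Linear.AutPSU

set_option quotPrecheck false

local notation "V" => (Fin 6 → GF4)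
local notation "H" => hB hF 6

theorem equiv_cases (σ : GF4 ≃+* GF4) : σ = 1 ∨ σ = fr := by
  have hw : ∀ a : GF4, a = 0 ∨ a = 1 ∨ a = w ∨ a = w + 1 := by decide +kernel
  rcases hw (σ w) with h | h | h | h
  · exact absurd (σ.injective (h.trans (map_zero σ).symm)) (by decide)
  · exact absurd (σ.injective (h.trans (map_one σ).symm)) (by decide)
  · refine Or.inl (RingEquiv.ext fun a => ?_)
    show σ a = a
    rcases hw a with rfl | rfl | rfl | rfl
    · exact map_zero σ
    · exact map_one σ
    · exact h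
    · rw [map_add, map_one, h]
  · refine Or.inr (RingEquiv.ext fun a => ?_)
    have hf : fr w = w + 1 := by decide +kernel
    rcases hw a with rfl | rfl | rfl | rfl
    · rw [map_zero, map_zero]
    · rw [map_one, map_one]
    · rw [h, hf]
    · rw [map_add, map_add, map_one, map_one, h, hf]

theorem inner_of_innd (g : ↥(Cfsg.GU 6 GF4 2)) (h : (innd g : MulAut U6) * innd g = 1) :
    ∃ x : U6, MulAut.conj x = innd g := by
  obtain ⟨G3, hG3⟩ : ∃ G3, G3 = g ^ 3 := ⟨_, rfl⟩
  have hd : G3.1.1.det = 1 := by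
    rw [hG3, SubmonoidClass.coe_pow, Units.val_pow_eq_pow_val, Matrix.det_pow]
    exact (show ∀ a : GF4, a ≠ 0 → a ^ 3 = 1 by decide +kernel) _
      (((Matrix.isUnit_iff_isUnit_det g.1.1).1 g.1.isUnit).ne_zero)
  let s : S6 := ⟨⟨G3.1.1, hd⟩, G3.2⟩
  refine ⟨QuotientGroup.mk s, ?_⟩
  rw [conj_mk_eq, show toGU s = G3 from Subtype.ext (Units.ext rfl), hG3, map_pow, pow_succ, pow_two, h, one_mul]

theorem semi_of_sq (g : ↥(Cfsg.GU 6 GF4 2)) (h : (innd g * fld fr : MulAut U6) * (innd g * fld fr) = 1) :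
    g.1.1 * g.1.1.map fr = 1 := by
  have hff : (fld fr : MulAut U6) * fld fr = 1 := by
    rw [← map_mul, show fr * fr = 1 from RingEquiv.ext (by decide +kernel : ∀ a : GF4, fr (fr a) = a), map_one]
  have h1 : (innd (g * smGU fr g) : MulAut U6) = innd 1 := by
    rw [map_one, map_mul, ← h, mul_assoc (innd g), ← mul_assoc (fld fr), fld_mul_innd, mul_assoc (innd (smGU fr g)),
      hff, mul_one]
  obtain ⟨c, hc⟩ := (innd_eq_innd hF 2 (by norm_num)).1 h1
  have hM : g.1.1 * g.1.1.map fr = c • 1 := hc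
  obtain ⟨M, hMd⟩ : ∃ M, M = g.1.1 := ⟨_, rfl⟩
  rw [← hMd] at hM ⊢
  have h2 : M.map fr * M = fr c • 1 := by
    have e := congrArg (fun A : Matrix (Fin 6) (Fin 6) GF4 => A.map fr) hM
    rw [Matrix.map_mul] at e
    have e2 : (M.map fr).map fr = M := by
      ext a b
      exact (show ∀ x : GF4, fr (fr x) = x by decide +kernel) _
    rw [e2] at e
    rw [e]
    ext a b
    rw [Matrix.map_apply, Matrix.smul_apply, Matrix.smul_apply, smul_eq_mul, smul_eq_mul, map_mul]
    congr 1
    by_cases hab : a = b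
    · rw [hab, Matrix.one_apply_eq, map_one]
    · rw [Matrix.one_apply_ne hab, map_zero]
  have h3 : fr c • M = c • M := by
    calc fr c • M = M * (fr c • 1) := by rw [Matrix.mul_smul, mul_one]
      _ = (M * M.map fr) * M := by rw [← h2, mul_assoc]
      _ = c • M := by rw [hM, Matrix.smul_mul, one_mul]
  have hdet : M.det ≠ 0 := by rw [hMd]; exact ((Matrix.isUnit_iff_isUnit_det g.1.1).1 g.1.isUnit).ne_zero
  have hc0 : fr c = c := by
    by_contra hne
    refine hdet ?_
    have h4 : (fr c + c) • M = 0 := by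
      rw [add_smul, h3]
      ext a b
      exact GF4.add_self' _
    have hne' : fr c + c ≠ 0 := fun e => hne ((show ∀ a : GF4, fr a + a = 0 → fr a = a by decide +kernel) _ e)
    rw [smul_eq_zero, or_iff_right hne'] at h4
    rw [h4, Matrix.det_zero]
  rcases fr_fixed c hc0 with rfl | rfl
  · exfalso
    rw [zero_smul] at hM
    have := congrArg Matrix.det hM
    rw [Matrix.det_mul, Matrix.det_zero, mul_eq_zero] at this
    rcases this with e | e
    · exact hdet e
    · refine hdet (fr.injective ?_)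
      rw [map_zero, ← e]
      exact fr.map_det M
  · rw [hM, one_smul]

/-- An alternating semilinear involution is conjugate to the standard one, with a chosen fixed vector. -/
theorem alt_conj (S : Semi) (ha : S.Alt) {c : V} (hc : S.Fix c) (hc0 : c ≠ 0) :
    ∃ B : ↥(Cfsg.GU 6 GF4 2), (innd S.g * fld fr : MulAut U6) = innd B * φ0 * (innd B)⁻¹ ∧
      B.1.1 *ᵥ ![v, o, o, w, o, o] = c := by
  obtain ⟨T, hT⟩ := S.exists_frame ha hc hc0
  let pi : Fin 6 → Fin 3 := ![0, 1, 2, 0, 1, 2]
  let al : Fin 6 → GF4 := ![w, w, w, v, v, v]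
  let col : Fin 6 → V := fun b => T.e (pi b) + al b • T.f (pi b)
  let M : Matrix (Fin 6) (Fin 6) GF4 := Matrix.of fun a b => col b a
  have hform : ∀ p r : Fin 3, ∀ α β : GF4, H (T.e p + α • T.f p) (T.e r + β • T.f r) =
      if p = r then β + fr α else 0 := by
    intro p r α β
    have hfe : H (T.f p) (T.e r) = if p = r then 1 else 0 := by
      rw [H_symm, T.ef]; simp [eq_comm, apply_ite fr]
    simp only [map_add, LinearMap.add_apply, H_smul_left, H_smul_right, T.ee, T.ff, T.ef, hfe]
    split_ifs <;> simp [add_comm]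
  have hcols : ∀ a b, (∑ k, M k a * M k b ^ 2) = if a = b then 1 else 0 := by
    intro a b
    show H (col b) (col a) = _
    show H (T.e (pi b) + al b • T.f (pi b)) (T.e (pi a) + al a • T.f (pi a)) = _
    rw [hform]
    revert a b
    decide +kernel
  let B := mkG M hcols
  have hswap : S.g.1.1 * M.map fr = M * pM := by
    refine Matrix.ext fun a b => ?_
    have hl : (S.g.1.1 * M.map fr) a b = S.φ (col b) a := rfl
    rw [hl]
    have hp : ∀ p : Fin 3, ∀ α : GF4, S.φ (T.e p + α • T.f p) = T.e p + fr α • T.f p := fun p α => by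
      rw [S.φ_add, S.φ_smul, show S.φ (T.e p) = T.e p from T.he p, show S.φ (T.f p) = T.f p from T.hf p]
    have hfw : fr w = v ∧ fr v = w := by decide +kernel
    fin_cases b <;>
      simp [col, pi, al, hp, hfw.1, hfw.2, M, pM, Matrix.mul_apply, Fin.sum_univ_six, show (o : GF4) = 0 from rfl,
        show (i : GF4) = 1 from rfl]
  refine ⟨B, ?_, ?_⟩
  · rw [eq_mul_inv_iff_mul_eq, φ0, ← mul_assoc, mul_assoc (innd S.g), fld_mul_innd, ← mul_assoc, ← map_mul, ← map_mul]
    refine congrArg (fun x => innd x * fld fr) (Subtype.ext (Units.ext ?_))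
    exact hswap
  · show M *ᵥ _ = c
    rw [← hT]
    funext a
    simp only [Matrix.mulVec, dotProduct, Fin.sum_univ_six, M, col, pi, al, Matrix.of_apply]
    simp [show (o : GF4) = 0 from rfl]
    exact (show ∀ e f : GF4, (e + w * f) * v + (e + v * f) * w = e by decide +kernel) _ _

/-- An outer involution fixes a central element of order three, or does so after a transvection commuting with
an element of order five. -/
theorem outer_cases (β : MulAut U6) (h2 : β * β = 1) (hout : ∀ x : U6, MulAut.conj x ≠ β) :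
    (∃ r : U6, Central3 r ∧ β r = r) ∨
      ∃ T y r : U6, T * T = 1 ∧ T ≠ 1 ∧ orderOf y = 5 ∧ Commute T y ∧ β T = T ∧ β y = y ∧ Central3 r ∧
        β r = T * r * T := by
  obtain ⟨g, σ, rfl⟩ := exists_decomp hF (p := 2) (by norm_num) (fun h => by omega) β
  rcases equiv_cases σ with rfl | rfl
  · exfalso
    rw [map_one, mul_one] at h2 hout
    obtain ⟨x, hx⟩ := inner_of_innd g h2
    exact hout x hx
  let S : Semi := ⟨g, semi_of_sq g h2⟩
  by_cases ha : S.Alt
  · obtain ⟨e, he, he0⟩ : ∃ e, S.Fix e ∧ e ≠ 0 := by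
      by_contra hcon
      push Not at hcon
      have h1 : (Pi.single 0 1 : V) = 0 := S.all_of_fix (P := fun x => x = 0)
        (fun x y hx hy => by rw [hx, hy, add_zero]) (fun a x hx => by rw [hx, smul_zero]) hcon _
      simpa using congrFun h1 0
    obtain ⟨B, hB, -⟩ := alt_conj S ha he he0
    refine Or.inl ⟨innd B rb, central3_rb.map _, ?_⟩
    rw [show (innd g * fld fr : MulAut U6) = _ from hB, MulAut.mul_apply, MulAut.mul_apply, MulAut.inv_apply,
      MulEquiv.symm_apply_apply, φ0_rb]
  refine Or.inr ?_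
  obtain ⟨c, hc⟩ : ∃ c, c = S.cdiag := ⟨_, rfl⟩
  have hcf : S.Fix c := hc ▸ S.cdiag_fix
  have hci : H c c = 0 := hc ▸ S.cdiag_iso
  have hc0 : c ≠ 0 := fun e => ha fun x hx => by
    rw [← S.cdiag_spec hx, ← hc, e, map_zero, LinearMap.zero_apply]
  have hk : Skew hF (1 : GF4) := by
    show (1 : GF4) + frob hF 1 = 0
    rw [map_one]; decide
  let β : MulAut U6 := innd g * fld fr
  let t : S6 := tU hF c 1
  let T : U6 := QuotientGroup.mk t
  have hact : ∀ x, t.1.1 *ᵥ x = x + H c x • c := fun x => by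
    have := act_tU hF hci hk x
    rwa [one_mul] at this
  have hTT : T * T = 1 := by
    rw [← QuotientGroup.mk_mul, show t * t = 1 from su_ext fun x => by
      rw [act_mul, act_one, act_tU hF hci hk, act_tU hF hci hk]
      simp only [one_mul, map_add, H_smul_right, hci, mul_zero, add_zero]
      rw [add_assoc, add_self'', add_zero], QuotientGroup.mk_one]
  have hβT : β T = T := by
    show (innd g * fld fr : MulAut U6) (QuotientGroup.mk t) = _
    rw [MulAut.mul_apply, fld_mk, frobU_tU hF fr hci hk, innd_mk,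
      cnj_tU hF g (by rw [form_comp hF, hci, map_zero]) (hk.map hF fr), map_one,
      show g.1.1 *ᵥ (fr ∘ c) = c from hcf]
  have hβ'2 : (β * MulAut.conj T) * (β * MulAut.conj T) = 1 := by
    refine MulEquiv.ext fun x => ?_
    show β (T * β (T * x * T⁻¹) * T⁻¹) = x
    rw [map_mul, map_mul, map_inv, hβT, show β (β (T * x * T⁻¹)) = T * x * T⁻¹ from
      DFunLike.congr_fun h2 (T * x * T⁻¹), inv_eq_of_mul_eq_one_right hTT,
      show T * (T * x * T) * T = (T * T) * x * (T * T) by simp only [mul_assoc], hTT, one_mul, mul_one]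
  let g' : ↥(Cfsg.GU 6 GF4 2) := g * smGU fr (toGU t)
  have hg' : (innd g' * fld fr : MulAut U6) = β * MulAut.conj T := by
    show innd g' * fld fr = innd g * fld fr * MulAut.conj (QuotientGroup.mk t)
    rw [conj_mk_eq, mul_assoc, fld_mul_innd, ← mul_assoc, ← map_mul]
  let S' : Semi := ⟨g', semi_of_sq g' (by rw [hg']; exact hβ'2)⟩
  have hφ' : ∀ x, S'.φ x = S.φ x + fr (H c x) • c := fun x => by
    have e : S'.φ x = S.φ (t.1.1 *ᵥ x) := by
      show (g.1.1 * t.1.1.map fr) *ᵥ (fr ∘ x) = g.1.1 *ᵥ (fr ∘ (t.1.1 *ᵥ x))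
      rw [← mulVec_comp, Matrix.mulVec_mulVec]
    rw [e, hact, S.φ_add, S.φ_smul, show S.φ c = c from hcf]
  have hcf' : S'.Fix c := by
    show S'.φ c = c
    rw [hφ', hci, map_zero, zero_smul, add_zero, show S.φ c = c from hcf]
  have ha' : S'.Alt := by
    intro a haf
    have e : S.φ a + fr (H c a) • c = a := (hφ' a).symm.trans haf
    set h := H c a
    have hb : S.p2 a = fr h • c := by
      unfold Semi.p2
      nth_rewrite 1 [← e]
      rw [add_comm (S.φ a), add_assoc, add_self'', add_zero]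
    obtain ⟨a0, ha0⟩ : ∃ a0, a0 = a + w • S.p2 a := ⟨_, rfl⟩
    have hfr : fr (fr h) = fr h := by
      have h1 : S.Fix (fr h • c) := hb ▸ S.fix_p2 a
      have h2 : fr (fr h) • c = fr h • c := by
        have := S.φ_smul (fr h) c
        rw [show S.φ c = c from hcf] at this
        exact this.symm.trans h1
      by_contra hne
      exact hne (smul_left_injective GF4 hc0 h2)
    have hfix0 : S.Fix a0 := ha0 ▸ S.fix_p1 a
    have hd : a = a0 + (w * fr h) • c := by
      rw [mul_smul, ← hb, ha0]; exact S.decomp a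
    have hh : h = H a0 a0 := by
      show H c a = _
      rw [← S.cdiag_spec hfix0, ← hc, hd, map_add, H_smul_right, hci, mul_zero, add_zero]
    have hac : H a0 c = fr h := by rw [hh, ← S.cdiag_spec hfix0, ← hc, H_symm]
    rw [hd]
    simp only [map_add, LinearMap.add_apply, H_smul_left, H_smul_right, hci, mul_zero, add_zero, hac]
    rw [show H c a0 = h by rw [hh, ← S.cdiag_spec hfix0, hc], ← hh]
    exact (show ∀ x : GF4, fr (fr x) = fr x → x + fr (w * fr x) * x + w * fr x * fr x = 0 by decide +kernel) h hfr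
  obtain ⟨B, hB, hBc⟩ := alt_conj S' ha' hcf' hc0
  rw [hg'] at hB
  have hB' : ∀ x, φ0 x = x → β (T * innd B x * T⁻¹) = innd B x := fun x hx => by
    have := DFunLike.congr_fun hB (innd B x)
    simp only [MulAut.mul_apply, MulAut.inv_apply, MulAut.conj_apply, MulEquiv.symm_apply_apply, hx] at this
    exact this
  let c0 : V := ![v, o, o, w, o, o]
  have hc00 : H c0 c0 = 0 := by
    have := form_GU hF B c0 c0
    rw [hBc, hci] at this
    exact this.symm
  have hTc : T = innd B (QuotientGroup.mk (tU hF c0 1) : U6) := by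
    rw [innd_mk, cnj_tU hF B hc00 hk, hBc]
  have hcomm : Commute (QuotientGroup.mk (tU hF c0 1) : U6) yb := by
    refine (Commute.map ?_ (QuotientGroup.mk' (Subgroup.center S6))).symm
    refine mul_inv_eq_iff_eq_mul.1 ?_
    rw [conj_tU hF y0 hc00 hk]
    congr 1
    show yM *ᵥ c0 = c0
    decide +kernel
  have hTy : Commute T (innd B yb) := hTc ▸ hcomm.map (innd B).toMonoidHom
  have hT1 : T ≠ 1 := by
    intro e
    have hy : ∀ x, φ0 x = x → β (innd B x) = innd B x := fun x hx => by simpa [e] using hB' x hx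
    have hm : t ∈ Subgroup.center S6 := (QuotientGroup.eq_one_iff t).1 e
    have ht1 : t = 1 := by
      have h3 := center_cube hm
      have htt : t * t = 1 := su_ext fun x => by
        rw [act_mul, act_one, act_tU hF hci hk, act_tU hF hci hk]
        simp only [one_mul, map_add, H_smul_right, hci, mul_zero, add_zero]
        rw [add_assoc, add_self'', add_zero]
      rwa [pow_succ, pow_two, htt, one_mul] at h3
    obtain ⟨f, hf, hcf1⟩ := S.exists_partner' hcf hc0
    have := hact f
    rw [ht1, hcf1, one_smul] at this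
    exact hc0 (left_eq_add.1 ((Matrix.one_mulVec f).symm.trans this))
  refine ⟨T, innd B yb, innd B rb, hTT, hT1, ?_, hTy, hβT, ?_, central3_rb.map _, ?_⟩
  · rw [MulEquiv.orderOf_eq]; exact yb_five
  · have := hB' yb φ0_y
    rwa [hTy.eq, mul_inv_cancel_right] at this
  · have h1 := hB' rb φ0_rb
    have h3 : β (β (T * innd B rb * T⁻¹)) = T * innd B rb * T⁻¹ :=
      DFunLike.congr_fun h2 (T * innd B rb * T⁻¹)
    rw [h1] at h3
    show β (innd B rb) = _
    rw [h3, inv_eq_of_mul_eq_one_right hTT]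

end Cfsg.Lib.Fi22Three.Model
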