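import Cfsg.Agent.Lib.CosetEnum.U62Geom
import Cfsg.Agent.Lib.Linear.AutPSU.Out

/-!
# `U₆(2)` in coordinates: an element of order five, one of order three and the swap
-/

set_option autoImplicit false
set_option linter.unusedSectionVars false
set_option maxRecDepth 8000

namespace Cfsg.Lib.Fi22Three.Model

open Matrix Cfsg.Lib.CosetEnum Cfsg.Lib.CosetEnum.GF4 Cfsg.Lib.Linear.Herm Cfsg.Lib.Linear.AutPSU

/-- The special unitary group. -/
abbrev S6 : Type := ↥(Cfsg.SU 6 GF4 2)

/-- The simple group. -/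
abbrev U6 : Type := Cfsg.PSU 6 GF4 2

theorem hF : Fintype.card GF4 = 2 ^ 2 := rfl

instance : Fact (Nat.Prime 2) := ⟨Nat.prime_two⟩

instance : CharP GF4 2 := CharTwo.of_one_ne_zero_of_two_eq_zero one_ne_zero
  (by rw [← one_add_one_eq_two]; decide)

/-- A matrix with orthonormal columns preserves the form. -/
theorem preserves_of_cols (M : Matrix (Fin 6) (Fin 6) GF4)
    (h : ∀ i j, (∑ k, M k i * M k j ^ 2) = if i = j then 1 else 0) (u v : Fin 6 → GF4) :
    Cfsg.hermForm 6 GF4 2 (M *ᵥ u) (M *ᵥ v) = Cfsg.hermForm 6 GF4 2 u v := by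
  simp only [Cfsg.hermForm, Matrix.mulVec, dotProduct]
  calc ∑ k, (∑ i, M k i * u i) * (∑ j, M k j * v j) ^ 2
      = ∑ i, ∑ j, u i * v j ^ 2 * ∑ k, M k i * M k j ^ 2 := by
        simp only [q_cast_sum hF, Finset.sum_mul_sum, mul_pow]
        rw [Finset.sum_comm]
        refine Finset.sum_congr rfl fun i _ => ?_
        rw [Finset.sum_comm]
        refine Finset.sum_congr rfl fun j _ => ?_
        rw [Finset.mul_sum]
        exact Finset.sum_congr rfl fun k _ => by ring
    _ = ∑ i, u i * v i ^ 2 := by simp [h]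

/-- An element of the special unitary group from its columns. -/
def mkS (M : Matrix (Fin 6) (Fin 6) GF4) (hd : M.det = 1)
    (h : ∀ i j, (∑ k, M k i * M k j ^ 2) = if i = j then 1 else 0) : S6 :=
  ⟨⟨M, hd⟩, preserves_of_cols M h⟩

/-- A matrix with orthonormal columns is invertible. -/
theorem det_ne_zero (M : Matrix (Fin 6) (Fin 6) GF4)
    (h : ∀ i j, (∑ k, M k i * M k j ^ 2) = if i = j then 1 else 0) : M.det ≠ 0 := by
  have e : (M.map (· ^ 2))ᵀ * M = 1 := by
    ext i j
    rw [Matrix.mul_apply, Matrix.one_apply]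
    simp only [Matrix.transpose_apply, Matrix.map_apply, mul_comm (_ ^ 2)]
    rw [h j i]
    simp only [eq_comm]
  intro h0
  have := congrArg Matrix.det e
  rw [Matrix.det_mul, h0, mul_zero, Matrix.det_one] at this
  exact zero_ne_one this

/-- An element of the unitary group from its columns. -/
noncomputable def mkG (M : Matrix (Fin 6) (Fin 6) GF4)
    (h : ∀ i j, (∑ k, M k i * M k j ^ 2) = if i = j then 1 else 0) : ↥(Cfsg.GU 6 GF4 2) :=
  ⟨Matrix.GeneralLinearGroup.mk'' M (isUnit_iff_ne_zero.2 (det_ne_zero M h)), preserves_of_cols M h⟩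

theorem mkG_val (M : Matrix (Fin 6) (Fin 6) GF4)
    (h : ∀ i j, (∑ k, M k i * M k j ^ 2) = if i = j then 1 else 0) : (mkG M h).1.1 = M := rfl

/-- The element of order five on the second and third plane. -/
def yM : Matrix (Fin 6) (Fin 6) GF4 :=
  !![i, o, o, o, o, o; o, i, o, o, i, i; o, o, v, o, v, v; o, o, o, i, o, o; o, i, i, o, i, o; o, w, w, o, o, w]

/-- The element of order five. -/
def y0 : S6 := mkS yM (by decide +kernel) (by decide +kernel)

theorem y0_five : y0 ^ 5 = 1 := by
  refine Subtype.ext (Subtype.ext ?_)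
  show yM ^ 5 = 1
  simp only [pow_succ, pow_zero, one_mul]
  decide +kernel

/-- The diagonal element of order three. -/
def rM : Matrix (Fin 6) (Fin 6) GF4 := Matrix.diagonal ![w, w, w, v, v, v]

/-- The element of order three. -/
def r0 : S6 := mkS rM (by decide +kernel) (by decide +kernel)

theorem r0_three : r0 ^ 3 = 1 := by
  refine Subtype.ext (Subtype.ext ?_)
  show rM ^ 3 = 1
  simp only [pow_succ, pow_zero, one_mul]
  decide +kernel

/-- The exchange of the two halves of a coordinate pair. -/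
def pM : Matrix (Fin 6) (Fin 6) GF4 :=
  !![o, o, o, i, o, o; o, o, o, o, i, o; o, o, o, o, o, i; i, o, o, o, o, o; o, i, o, o, o, o; o, o, i, o, o, o]

/-- The exchange as a unitary matrix. -/
noncomputable def p0 : ↥(Cfsg.GU 6 GF4 2) := mkG pM (by decide +kernel)

/-- The squaring map as a field automorphism. -/
def fr : GF4 ≃+* GF4 where
  toFun a := a * a
  invFun a := a * a
  left_inv := by intro a; revert a; decide
  right_inv := by intro a; revert a; decide
  map_mul' := by decide
  map_add' := by decide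

/-- The standard outer involution. -/
noncomputable def φ0 : MulAut U6 := innd p0 * fld fr

theorem φ0_mk (s : S6) (N : Matrix (Fin 6) (Fin 6) GF4) (hN : pM * s.1.1.map fr * pM = N) {t : S6} (ht : t.1.1 = N) :
    φ0 (QuotientGroup.mk s : U6) = QuotientGroup.mk t := by
  rw [φ0, MulAut.mul_apply, fld_mk, innd_mk]
  refine congrArg _ (Subtype.ext (Subtype.ext ?_))
  show p0.1.1 * (s.1.1.map fr) * (p0.1⁻¹).1 = t.1.1
  have hp : (p0.1⁻¹).1 = pM := by
    have h2 : pM * pM = 1 := by
      decide +kernel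
    calc (p0.1⁻¹).1 = (p0.1⁻¹).1 * (p0.1.1 * pM) := by
          rw [show p0.1.1 = pM from rfl, h2, mul_one]
      _ = pM := by rw [← mul_assoc, Units.inv_mul, one_mul]
  rw [hp, ht, ← hN]
  rfl

theorem φ0_y : φ0 (QuotientGroup.mk y0 : U6) = QuotientGroup.mk y0 := by
  refine φ0_mk y0 yM ?_ rfl
  decide +kernel

theorem φ0_r : φ0 (QuotientGroup.mk r0 : U6) = QuotientGroup.mk r0 := by
  refine φ0_mk r0 rM ?_ rfl
  decide +kernel

end Cfsg.Lib.Fi22Three.Model
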