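import Cfsg.Agent.Lib.Fi22Three.Model.Basic

/-!
# Involutions commuting with an element of order five in `U₆(2)`
-/

set_option autoImplicit false
set_option linter.unusedSectionVars false
set_option maxRecDepth 8000

namespace Cfsg.Lib.Fi22Three.Model

open Matrix Cfsg.Lib.CosetEnum Cfsg.Lib.CosetEnum.GF4 Cfsg.Lib.Linear.Herm Cfsg.Lib.Linear.AutPSU

/-- Commuting involutions are equal and noncommuting ones generate a group of order six. -/
def Rigid {M : Type*} [Monoid M] (a b : M) : Prop := (a * b = b * a → a = b) ∧ (a * b ≠ b * a → (a * b) ^ 3 = 1)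

/-- The matrix with the given block on the first plane and the identity on the others. -/
def emb (a b c d : GF4) : Matrix (Fin 6) (Fin 6) GF4 :=
  !![a, o, o, b, o, o; o, i, o, o, o, o; o, o, i, o, o, o; c, o, o, d, o, o; o, o, o, o, i, o; o, o, o, o, o, i]

/-- The conditions on the block of a unitary involution. -/
def Blk (q : GF4 × GF4 × GF4 × GF4) : Bool :=
  let (a, b, c, d) := q
  (a * a + b * c == 1) && (a * b + b * d == 0) && (c * a + d * c == 0) && (c * b + d * d == 1) &&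
    (a * (a * a) + c * (c * c) == 1) && (a * (b * b) + c * (d * d) == 0) && (b * (b * b) + d * (d * d) == 1)

/-- The blocks of the involutions. -/
def blocks : List (GF4 × GF4 × GF4 × GF4) :=
  [(i, o, o, i), (o, i, i, o), (o, w, v, o), (o, v, w, o)]

theorem blk_mem : ∀ a b c d : GF4, Blk (a, b, c, d) = true → (a, b, c, d) ∈ blocks := by decide +kernel

theorem blocks_ok : ∀ q ∈ blocks, ∀ r ∈ blocks,
    q = (i, o, o, i) ∨ r = (i, o, o, i) ∨ q = r ∨
      (emb q.1 q.2.1 q.2.2.1 q.2.2.2 * emb r.1 r.2.1 r.2.2.1 r.2.2.2 ≠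
          emb r.1 r.2.1 r.2.2.1 r.2.2.2 * emb q.1 q.2.1 q.2.2.1 q.2.2.2 ∧
        (emb q.1 q.2.1 q.2.2.1 q.2.2.2 * emb r.1 r.2.1 r.2.2.1 r.2.2.2) *
          (emb q.1 q.2.1 q.2.2.1 q.2.2.2 * emb r.1 r.2.1 r.2.2.1 r.2.2.2) *
          (emb q.1 q.2.1 q.2.2.1 q.2.2.2 * emb r.1 r.2.1 r.2.2.1 r.2.2.2) = 1) := by decide +kernel

/-- The orbit of the second basis vector under the element of order five. -/
def kv : ℕ → Fin 6 → GF4
  | 0 => ![o, i, o, o, o, o] | 1 => ![o, i, o, o, i, w] | 2 => ![o, w, w, o, o, i] | _ => ![o, v, w, o, o, w]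

theorem yM_kv : ∀ k < 3, yM *ᵥ kv k = kv (k + 1) := by decide +kernel

theorem yM_fixed : ∀ a b c d e f : GF4, yM *ᵥ ![a, b, c, d, e, f] = ![a, b, c, d, e, f] →
    b = o ∧ c = o ∧ e = o ∧ f = o := by decide +kernel

theorem yM_comb : ∀ x : GF4, ∀ y : GF4, ∀ z : GF4, ∀ u : GF4,
    ∃ b0 b1 b2 b3 : GF4, ![o, x, y, o, z, u] = b0 • kv 0 + b1 • kv 1 + b2 • kv 2 + b3 • kv 3 := by
  intro x y z u
  refine ⟨x + (w * z + w * u), i * z, w * y + (v * z + w * u), i * y + (v * z + w * u), ?_⟩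
  revert x y z u
  decide +kernel

theorem yM_square : ∀ b0 b1 b2 b3 : GF4,
    b0 • (b0 • kv 0 + b1 • kv 1 + b2 • kv 2 + b3 • kv 3) +
      b1 • (yM *ᵥ (b0 • kv 0 + b1 • kv 1 + b2 • kv 2 + b3 • kv 3)) +
      b2 • (yM *ᵥ (yM *ᵥ (b0 • kv 0 + b1 • kv 1 + b2 • kv 2 + b3 • kv 3))) +
      b3 • (yM *ᵥ (yM *ᵥ (yM *ᵥ (b0 • kv 0 + b1 • kv 1 + b2 • kv 2 + b3 • kv 3)))) = kv 0 →
    b0 • kv 0 + b1 • kv 1 + b2 • kv 2 + b3 • kv 3 = kv 0 := by decide +kernel

theorem yM_sub : ∀ a b c d e f : GF4, (yM *ᵥ ![a, b, c, d, e, f] + ![a, b, c, d, e, f]) 0 = o ∧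
    (yM *ᵥ ![a, b, c, d, e, f] + ![a, b, c, d, e, f]) 3 = o := by decide +kernel

theorem eta6 (x : Fin 6 → GF4) : ![x 0, x 1, x 2, x 3, x 4, x 5] = x := by
  funext j; fin_cases j <;> rfl

theorem kv0_image : ∃ u : Fin 6 → GF4, yM *ᵥ u + u = kv 0 := by
  refine ⟨![o, w, w, o, i, o], ?_⟩
  decide +kernel

/-- An involution commuting with the element of order five is a block matrix. -/
theorem exists_block {g : S6} (h2 : g * g = 1) (hc : g * y0 = y0 * g) :
    ∃ q ∈ blocks, g.1.1 = emb q.1 q.2.1 q.2.2.1 q.2.2.2 := by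
  set M := g.1.1
  have hMM : M * M = 1 := congrArg (fun s : S6 => s.1.1) h2
  have hMy : M * yM = yM * M := congrArg (fun s : S6 => s.1.1) hc
  have hcomm : ∀ x, M *ᵥ (yM *ᵥ x) = yM *ᵥ (M *ᵥ x) := fun x => by
    rw [Matrix.mulVec_mulVec, Matrix.mulVec_mulVec, hMy]
  have hfix : ∀ x, yM *ᵥ x = x → (M *ᵥ x) 1 = o ∧ (M *ᵥ x) 2 = o ∧ (M *ᵥ x) 4 = o ∧ (M *ᵥ x) 5 = o := by
    intro x hx
    refine yM_fixed ((M *ᵥ x) 0) _ _ ((M *ᵥ x) 3) _ _ ?_
    rw [eta6 (M *ᵥ x), ← hcomm, hx]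
  obtain ⟨u, hu⟩ := kv0_image
  obtain ⟨hx0, hx3⟩ : (M *ᵥ kv 0) 0 = o ∧ (M *ᵥ kv 0) 3 = o := by
    have := yM_sub ((M *ᵥ u) 0) ((M *ᵥ u) 1) ((M *ᵥ u) 2) ((M *ᵥ u) 3) ((M *ᵥ u) 4) ((M *ᵥ u) 5)
    rwa [eta6 (M *ᵥ u), ← hcomm, ← Matrix.mulVec_add, hu] at this
  obtain ⟨b0, b1, b2, b3, hb⟩ :=
    yM_comb ((M *ᵥ kv 0) 1) ((M *ᵥ kv 0) 2) ((M *ᵥ kv 0) 4) ((M *ᵥ kv 0) 5)
  have hx : M *ᵥ kv 0 = b0 • kv 0 + b1 • kv 1 + b2 • kv 2 + b3 • kv 3 := by
    rw [← hb]
    conv_lhs => rw [← eta6 (M *ᵥ kv 0), hx0, hx3]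
  have hk1 : kv 1 = yM *ᵥ kv 0 := (yM_kv 0 (by norm_num)).symm
  have hk2 : kv 2 = yM *ᵥ (yM *ᵥ kv 0) := by rw [← hk1]; exact (yM_kv 1 (by norm_num)).symm
  have hk3 : kv 3 = yM *ᵥ (yM *ᵥ (yM *ᵥ kv 0)) := by rw [← hk2]; exact (yM_kv 2 (by norm_num)).symm
  have hMx : M *ᵥ (M *ᵥ kv 0) = kv 0 := by rw [Matrix.mulVec_mulVec, hMM, Matrix.one_mulVec]
  have hone : M *ᵥ kv 0 = kv 0 := by
    rw [hx] at hMx ⊢
    refine yM_square b0 b1 b2 b3 ?_
    rw [← hx]
    rw [Matrix.mulVec_add, Matrix.mulVec_add, Matrix.mulVec_add, Matrix.mulVec_smul, Matrix.mulVec_smul,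
      Matrix.mulVec_smul, Matrix.mulVec_smul, hk1, hk2, hk3, hcomm, hcomm, hcomm, hcomm, hcomm, hcomm] at hMx
    exact hMx
  have hall : ∀ x y z s : GF4, M *ᵥ ![o, x, y, o, z, s] = ![o, x, y, o, z, s] := by
    intro x y z s
    obtain ⟨c0, c1, c2, c3, hc⟩ := yM_comb x y z s
    simp only [hc, Matrix.mulVec_add, Matrix.mulVec_smul, hk1, hk2, hk3, hcomm, hone]
  have hcol : ∀ k (a : Fin 6), M a k = (M *ᵥ (Pi.single k 1)) a := fun k a => by simp
  have c1 : ∀ a, M a 1 = (kv 0) a := fun a => by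
    rw [hcol, show (Pi.single 1 1 : Fin 6 → GF4) = ![o, i, o, o, o, o] from by decide +kernel, hall]; rfl
  have c2 : ∀ a, M a 2 = (![o, o, i, o, o, o] : Fin 6 → GF4) a := fun a => by
    rw [hcol, show (Pi.single 2 1 : Fin 6 → GF4) = ![o, o, i, o, o, o] from by decide +kernel, hall]
  have c4 : ∀ a, M a 4 = (![o, o, o, o, i, o] : Fin 6 → GF4) a := fun a => by
    rw [hcol, show (Pi.single 4 1 : Fin 6 → GF4) = ![o, o, o, o, i, o] from by decide +kernel, hall]
  have c5 : ∀ a, M a 5 = (![o, o, o, o, o, i] : Fin 6 → GF4) a := fun a => by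
    rw [hcol, show (Pi.single 5 1 : Fin 6 → GF4) = ![o, o, o, o, o, i] from by decide +kernel, hall]
  obtain ⟨p1, p2, p4, p5⟩ := hfix (Pi.single 0 1) (by decide +kernel)
  obtain ⟨r1, r2, r4, r5⟩ := hfix (Pi.single 3 1) (by decide +kernel)
  rw [← hcol] at p1 p2 p4 p5 r1 r2 r4 r5
  have hM : M = emb (M 0 0) (M 0 3) (M 3 0) (M 3 3) := by
    ext a k
    fin_cases k <;> fin_cases a <;> simp [emb, kv, c1, c2, c4, c5, p1, p2, p4, p5, r1, r2, r4, r5] <;> rfl
  refine ⟨(M 0 0, M 0 3, M 3 0, M 3 3), blk_mem _ _ _ _ ?_, hM⟩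
  have hcond : ∀ j k, (∑ a, M a j * M a k ^ 2) = if j = k then 1 else 0 := fun j k => by
    have := g.2 (Pi.single j 1) (Pi.single k 1)
    simpa [Cfsg.hermForm, Pi.single_apply, ite_pow, eq_comm (a := k)] using this
  have sq : ∀ x : GF4, x ^ 2 = x * x := pow_two
  have e00 := congrFun (congrFun hMM 0) 0
  have e03 := congrFun (congrFun hMM 0) 3
  have e30 := congrFun (congrFun hMM 3) 0
  have e33 := congrFun (congrFun hMM 3) 3
  have f00 := hcond 0 0
  have f03 := hcond 0 3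
  have f33 := hcond 3 3
  simp only [Matrix.mul_apply, Fin.sum_univ_six, c1, c2, c4, c5, p1, p2, p4, p5, r1, r2, r4, r5, kv, sq,
    show (o : GF4) = 0 from rfl, mul_zero, zero_mul, add_zero, zero_add, Matrix.one_apply] at e00 e03 e30 e33 f00 f03 f33
  simp only [Blk, Bool.and_eq_true, beq_iff_eq]
  simp at e00 e03 e30 e33 f00 f03 f33
  exact ⟨⟨⟨⟨⟨⟨e00, e03⟩, e30⟩, e33⟩, f00⟩, f03⟩, f33⟩

/-- The element of order five in the simple group. -/
def yb : U6 := QuotientGroup.mk y0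

theorem center_cube {c : S6} (hc : c ∈ Subgroup.center S6) : c ^ 3 = 1 := by
  have h := pow_card_eq_one' (x := (⟨c, hc⟩ : Subgroup.center S6))
  rw [card_psu.2.2] at h
  exact congrArg Subtype.val h

theorem yb_five : orderOf yb = 5 := by
  haveI : Fact (Nat.Prime 5) := ⟨by norm_num⟩
  refine orderOf_eq_prime (by rw [yb, ← QuotientGroup.mk_pow, y0_five, QuotientGroup.mk_one]) fun h => ?_
  have hm := (QuotientGroup.eq_one_iff y0).1 h
  have h1 : y0 = 1 := by
    rw [← orderOf_eq_one_iff]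
    exact Nat.dvd_one.1 ((show Nat.gcd 5 3 = 1 by norm_num) ▸ Nat.dvd_gcd
      (orderOf_dvd_of_pow_eq_one y0_five) (orderOf_dvd_of_pow_eq_one (center_cube hm)))
  have h2 : yM = 1 := congrArg (fun s : S6 => s.1.1) h1
  revert h2
  decide +kernel

theorem exists_lift {a : U6} (ha : a * a = 1) (hc : Commute a yb) :
    ∃ g : S6, g * g = 1 ∧ g * y0 = y0 * g ∧ QuotientGroup.mk g = a := by
  obtain ⟨g, hg, rfl⟩ := exists_lift_pow hF 2 (by norm_num) (k := 1) (a := a) (by rw [pow_one, pow_two, ha])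
  rw [pow_one, pow_two] at hg
  refine ⟨g, hg, ?_, rfl⟩
  have hz : (g * y0 * g⁻¹) * y0⁻¹ ∈ Subgroup.center S6 := by
    rw [← QuotientGroup.eq_one_iff, QuotientGroup.mk_mul, QuotientGroup.mk_mul, QuotientGroup.mk_mul,
      QuotientGroup.mk_inv, QuotientGroup.mk_inv]
    show (_ : U6) * yb * _ * yb⁻¹ = 1
    rw [hc.eq]; group
  set c := g * y0 * g⁻¹ * y0⁻¹ with hcd
  have h5 : c ^ 5 = 1 := by
    have e : g * y0 * g⁻¹ = c * y0 := by rw [hcd]; group
    have h := congrArg (fun x => x ^ 5) e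
    simp only [conj_pow, (show Commute c y0 from (Subgroup.mem_center_iff.1 hz y0).symm).mul_pow, y0_five,
      mul_one, mul_inv_cancel] at h
    exact h.symm
  have h1 : c = 1 := by
    rw [← orderOf_eq_one_iff]
    exact Nat.dvd_one.1 ((show Nat.gcd 5 3 = 1 by norm_num) ▸ Nat.dvd_gcd
      (orderOf_dvd_of_pow_eq_one h5) (orderOf_dvd_of_pow_eq_one (center_cube hz)))
  rw [hcd] at h1
  exact mul_inv_eq_iff_eq_mul.1 (mul_inv_eq_one.1 h1)

theorem rigid_base {a b : U6} (ha : a * a = 1) (ha1 : a ≠ 1) (hb : b * b = 1) (hb1 : b ≠ 1)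
    (hca : Commute a yb) (hcb : Commute b yb) : Rigid a b := by
  obtain ⟨g, g2, gy, rfl⟩ := exists_lift ha hca
  obtain ⟨h, h2, hy, rfl⟩ := exists_lift hb hcb
  obtain ⟨q, hq, hqe⟩ := exists_block g2 gy
  obtain ⟨r, hr, hre⟩ := exists_block h2 hy
  have hne : ∀ {s : S6} {p : GF4 × GF4 × GF4 × GF4}, s.1.1 = emb p.1 p.2.1 p.2.2.1 p.2.2.2 →
      (QuotientGroup.mk s : U6) ≠ 1 → p ≠ (i, o, o, i) := fun {s p} e hs hp => hs (by
    rw [show s = 1 from Subtype.ext (Subtype.ext (by rw [e, hp]; decide +kernel)), QuotientGroup.mk_one])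
  rcases blocks_ok q hq r hr with e | e | e | ⟨e1, e2⟩
  · exact absurd e (hne hqe ha1)
  · exact absurd e (hne hre hb1)
  · have : g = h := Subtype.ext (Subtype.ext (by rw [hqe, hre, e]))
    subst this
    exact ⟨fun _ => rfl, fun h => absurd rfl h⟩
  · have hgh : g * h ≠ h * g := fun e => e1 (by
      rw [← hqe, ← hre]; exact congrArg (fun s : S6 => s.1.1) e)
    have h3 : (g * h) ^ 3 = 1 := by
      refine Subtype.ext (Subtype.ext ?_)
      show (g.1.1 * h.1.1) ^ 3 = 1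
      rw [hqe, hre, pow_succ, pow_succ, pow_one]
      exact e2
    refine ⟨fun e => absurd ?_ hgh, fun _ => by rw [← QuotientGroup.mk_mul, ← QuotientGroup.mk_pow, h3, QuotientGroup.mk_one]⟩
    -- the commutator has order prime to three
    rw [← QuotientGroup.mk_mul, ← QuotientGroup.mk_mul, QuotientGroup.eq] at e
    set c := (g * h)⁻¹ * (h * g) with hcd
    have hgi : g⁻¹ = g := inv_eq_of_mul_eq_one_right g2
    have hhi : h⁻¹ = h := inv_eq_of_mul_eq_one_right h2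
    have hce : c = (h * g) * (h * g) := by rw [hcd, _root_.mul_inv_rev, hgi, hhi]
    have hc3 := center_cube e
    have hh : (h * g) ^ 3 = 1 := by
      rw [show h * g = (g * h)⁻¹ by rw [_root_.mul_inv_rev, hgi, hhi], inv_pow, h3, inv_one]
    have hcc : c = (h * g)⁻¹ := by
      rw [hce]; exact eq_inv_of_mul_eq_one_left (by rw [← hh, pow_three, mul_assoc])
    have hz : g * h ∈ Subgroup.center S6 := by
      have := inv_mem (hcc ▸ e)
      rwa [inv_inv, show h * g = (g * h)⁻¹ by rw [_root_.mul_inv_rev, hgi, hhi], inv_mem_iff] at this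
    have h4 : g * h * g = g * (g * h) := (Subgroup.mem_center_iff.1 hz g).symm
    rw [← mul_assoc g g, g2, one_mul] at h4
    calc g * h = g * h * g * g := by rw [mul_assoc _ g g, g2, mul_one]
      _ = h * g := by rw [h4]

/-- Five divides the order to the first power. -/
theorem sylow_five (y : U6) (hy : orderOf y = 5) : ∃ c : U6, ∃ k : ℕ, c * y * c⁻¹ = yb ^ k := by
  haveI : Fact (Nat.Prime 5) := ⟨by norm_num⟩
  haveI : Finite U6 := Nat.finite_of_card_ne_zero (by rw [card_psu.1]; norm_num)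
  have hcard : Nat.card U6 = 5 * 1839366144 := by rw [card_psu.1]
  have mk : ∀ x : U6, orderOf x = 5 → ∃ P : Sylow 5 U6, (P : Subgroup U6) = Subgroup.zpowers x := by
    intro x hx
    have hp : IsPGroup 5 (Subgroup.zpowers x) := IsPGroup.of_card (n := 1) (by rw [Nat.card_zpowers, hx, pow_one])
    obtain ⟨P, hP⟩ := hp.exists_le_sylow
    refine ⟨P, (Subgroup.eq_of_le_of_card_ge hP ?_).symm⟩
    obtain ⟨n, hn⟩ := IsPGroup.iff_card.1 P.isPGroup'
    rw [Nat.card_zpowers, hx, hn]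
    have hd := Subgroup.card_subgroup_dvd_card (P : Subgroup U6)
    rw [hn, hcard] at hd
    rcases n with _ | _ | n
    · norm_num
    · norm_num
    · exfalso
      have := (pow_dvd_pow 5 (show 2 ≤ n + 1 + 1 by omega)).trans hd
      norm_num at this
  obtain ⟨P, hP⟩ := mk y hy
  obtain ⟨Q, hQ⟩ := mk yb yb_five
  obtain ⟨c, hc⟩ := MulAction.exists_smul_eq U6 P Q
  have hm : c * y * c⁻¹ ∈ (Q : Subgroup U6) := by
    rw [← hc]
    exact ⟨y, hP ▸ Subgroup.mem_zpowers y, rfl⟩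
  rw [hQ, ← mem_powers_iff_mem_zpowers, Submonoid.mem_powers_iff] at hm
  obtain ⟨k, hk⟩ := hm
  exact ⟨c, k, hk.symm⟩

/-- An involution commuting with an element of order five is carried to one commuting with the standard one. -/
theorem to_base {y : U6} (hy : orderOf y = 5) : ∃ c : U6, ∀ a, Commute a y → Commute (c * a * c⁻¹) yb := by
  obtain ⟨c, k, hk⟩ := sylow_five y hy
  refine ⟨c, fun a ha => ?_⟩
  have h1 := (Commute.conj_iff c).2 ha
  rw [hk] at h1
  have hk5 : Nat.Coprime k 5 := by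
    refine ((Nat.Prime.coprime_iff_not_dvd (by norm_num)).2 fun h => ?_).symm
    obtain ⟨m, rfl⟩ := h
    have e : yb ^ (5 * m) = 1 := by rw [pow_mul, ← yb_five, pow_orderOf_eq_one, one_pow]
    rw [e, conj_eq_one_iff] at hk
    rw [hk, orderOf_one] at hy
    norm_num at hy
  obtain ⟨m, hm⟩ := exists_pow_eq_self_of_coprime (yb_five ▸ hk5 : Nat.Coprime k (orderOf yb))
  have := h1.pow_right m
  rwa [hm] at this

theorem rigid_five {y a b : U6} (hy : orderOf y = 5) (ha : a * a = 1) (ha1 : a ≠ 1) (hb : b * b = 1)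
    (hb1 : b ≠ 1) (hca : Commute a y) (hcb : Commute b y) : Rigid a b := by
  obtain ⟨c, hc⟩ := to_base hy
  have sq : ∀ x : U6, x * x = 1 → (c * x * c⁻¹) * (c * x * c⁻¹) = 1 := fun x hx => by
    rw [show c * x * c⁻¹ * (c * x * c⁻¹) = c * (x * x) * c⁻¹ by group, hx, mul_one, mul_inv_cancel]
  have h := rigid_base (sq a ha) (by simpa using ha1) (sq b hb) (by simpa using hb1) (hc a hca) (hc b hcb)
  refine ⟨fun e => ?_, fun e => ?_⟩
  · exact mul_left_cancel (mul_right_cancel (h.1 ((show Commute a b from e).map (MulAut.conj c).toMonoidHom).eq))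
  · have h3 := h.2 fun e' => e (((Commute.conj_iff c).1 e').eq)
    rwa [show c * a * c⁻¹ * (c * b * c⁻¹) = c * (a * b) * c⁻¹ by group, conj_pow, conj_eq_one_iff] at h3

/-- Involutions commuting with elements of order five are conjugate. -/
theorem five_conj {y y' a b : U6} (hy : orderOf y = 5) (hy' : orderOf y' = 5) (ha : a * a = 1) (ha1 : a ≠ 1)
    (hb : b * b = 1) (hb1 : b ≠ 1) (hca : Commute a y) (hcb : Commute b y') : IsConj a b := by
  obtain ⟨c, hc⟩ := to_base hy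
  obtain ⟨c', hc'⟩ := to_base hy'
  have sq : ∀ (c x : U6), x * x = 1 → (c * x * c⁻¹) * (c * x * c⁻¹) = 1 := fun c x hx => by
    rw [show c * x * c⁻¹ * (c * x * c⁻¹) = c * (x * x) * c⁻¹ by group, hx, mul_one, mul_inv_cancel]
  have key : ∀ p r : U6, p * p = 1 → r * r = 1 → Rigid p r → IsConj p r := by
    intro p r hp hr h
    by_cases e : p * r = r * p
    · rw [h.1 e]
    · refine isConj_iff.2 ⟨p * r, ?_⟩
      have h3 := h.2 e
      rw [pow_succ, pow_succ, pow_one] at h3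
      calc p * r * p * (p * r)⁻¹ = p * r * p * (r * p) := by
            rw [_root_.mul_inv_rev, inv_eq_of_mul_eq_one_right hp, inv_eq_of_mul_eq_one_right hr]
        _ = (p * r * (p * r) * (p * r)) * r := by
            rw [show p * r * (p * r) * (p * r) * r = p * r * p * (r * p) * (r * r) by simp only [mul_assoc], hr,
              mul_one]
        _ = r := by rw [h3, one_mul]
  exact ((isConj_iff.2 ⟨c, rfl⟩).trans (key _ _ (sq c a ha) (sq c' b hb)
    (rigid_base (sq c a ha) (by simpa using ha1) (sq c' b hb) (by simpa using hb1) (hc a hca) (hc' b hcb)))).trans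
    (isConj_iff.2 ⟨c', rfl⟩).symm

end Cfsg.Lib.Fi22Three.Model
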